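import Groth.Prelude.Def_Dual3
import Mathlib.AlgebraicGeometry.PullbackCarrier
import Mathlib.AlgebraicGeometry.Morphisms.Preimmersion
import Mathlib.RingTheory.TensorProduct.MvPolynomial
import Mathlib.RingTheory.AlgebraicIndependent.TranscendenceBasis
import Mathlib.FieldTheory.AlgebraicClosure
import Mathlib.RingTheory.RingHom.FinitePresentation

/-!
# Transcendence degrees of residue fields under base change

For a point `z` of `X ×_S Y`, the transcendence degree of `κ(z)` over `κ(y)` is at most that of
`κ(x)` over `κ(s)`, and some point over a given `(x, y)` attains it.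
-/

set_option autoImplicit false
set_option linter.style.haveILetI false
set_option backward.isDefEq.respectTransparency false
set_option backward.isDefEq.respectTransparency.types false

universe u

open CategoryTheory Limits AlgebraicGeometry
open scoped TensorProduct Cardinal nonZeroDivisors

namespace Groth.Agent.TrdegBC

section Algebra

variable {k K L : Type u} [Field k] [Field K] [Field L] [Algebra k K] [Algebra k L]

/-- The compositum of an extension `L/k` with `K` has transcendence degree over `K` at most that of `L/k`. -/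
theorem trdeg_le_of_adjoin_eq_top {F : Type u} [Field F] [Algebra k F] [Algebra K F] [Algebra L F]
    [IsScalarTower k K F] [IsScalarTower k L F]
    (h : IntermediateField.adjoin K (Set.range (algebraMap L F)) = ⊤) :
    Algebra.trdeg K F ≤ Algebra.trdeg k L := by
  obtain ⟨s, hs⟩ := exists_isTranscendenceBasis k L
  rw [← hs.cardinalMk_eq_trdeg]
  let ι : L →ₐ[k] F := IsScalarTower.toAlgHom k L F
  let E : IntermediateField K F := IntermediateField.adjoin K (ι '' s)
  let k₀ : IntermediateField k L := IntermediateField.adjoin k s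
  have : Algebra.IsAlgebraic k₀ L := by
    have := hs.isAlgebraic_field
    rwa [Subtype.range_coe] at this
  have hle : k₀.map ι ≤ E.restrictScalars k := by
    rw [IntermediateField.adjoin_map, IntermediateField.adjoin_le_iff]
    exact IntermediateField.subset_adjoin _ _
  let f : k₀ →+* E :=
    ((algebraMap L F).comp k₀.val.toRingHom).codRestrict E fun x => hle ⟨_, x.2, rfl⟩
  have halg : ∀ l : L, IsAlgebraic E (algebraMap L F l) := fun l =>
    (Algebra.IsAlgebraic.isAlgebraic (R := k₀) l).ringHom_of_comp_eq f (algebraMap L F) f.injective rfl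
  have hEF : Algebra.IsAlgebraic E F := by
    refine ⟨fun a => ?_⟩
    have hC : IntermediateField.adjoin K (Set.range (algebraMap L F)) ≤
        (algebraicClosure E F).restrictScalars K := by
      rw [IntermediateField.adjoin_le_iff]
      rintro _ ⟨l, rfl⟩
      exact mem_algebraicClosure_iff.2 (halg l)
    rw [h] at hC
    exact mem_algebraicClosure_iff.1 (hC trivial)
  have : Algebra.IsAlgebraic (Algebra.adjoin K (ι '' s)) F :=
    ⟨fun a => IntermediateField.isAlgebraic_adjoin_iff.1 (hEF.isAlgebraic a)⟩
  exact (Algebra.IsAlgebraic.trdeg_le_cardinalMk K (ι '' s)).trans Cardinal.mk_image_le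

/-- Some prime of `K ⊗_k L` has residue field of transcendence degree over `K` at least that of `L/k`. -/
theorem exists_prime_trdeg_ge {R : Type u} [CommRing R] [Algebra k R] [Algebra K R] [Algebra L R]
    [IsScalarTower k K R] [IsScalarTower k L R] [Algebra.IsPushout k K L R] :
    ∃ P : Ideal R, P.IsPrime ∧ ∀ (F : Type u) [Field F] [Algebra K F] (φ : R →ₐ[K] F),
      RingHom.ker φ = P → Algebra.trdeg k L ≤ Algebra.trdeg K F := by
  obtain ⟨s, hs⟩ := exists_isTranscendenceBasis k L
  let e := Algebra.IsPushout.equiv k K L R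
  let v : s → R := fun i => algebraMap L R i
  let g : MvPolynomial s K →ₐ[K] K ⊗[k] L :=
    (Algebra.TensorProduct.map (AlgHom.id K K) (MvPolynomial.aeval (R := k) (Subtype.val : s → L))).comp
      (MvPolynomial.algebraTensorAlgEquiv k K).symm.toAlgHom
  have hg : Function.Injective g :=
    (Module.Flat.lTensor_preserves_injective_linearMap
      (MvPolynomial.aeval (R := k) (Subtype.val : s → L)).toLinearMap hs.1).comp
      (MvPolynomial.algebraTensorAlgEquiv k K).symm.injective
  have hv : (MvPolynomial.aeval v : MvPolynomial s K →ₐ[K] R) = e.toAlgHom.comp g := by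
    refine MvPolynomial.algHom_ext fun i => ?_
    simp [g, e, v, Algebra.IsPushout.equiv_tmul]
  have hinj : Function.Injective (MvPolynomial.aeval v : MvPolynomial s K →ₐ[K] R) := by
    rw [hv]
    exact e.injective.comp hg
  let M : Submonoid R := (nonZeroDivisors (MvPolynomial s K)).map
    (MvPolynomial.aeval v : MvPolynomial s K →ₐ[K] R)
  have hdisj : Disjoint ((⊥ : Ideal R) : Set R) M := by
    rw [Set.disjoint_left]
    rintro _ hx ⟨q, hq, rfl⟩
    exact nonZeroDivisors.ne_zero hq (hinj (by simpa using hx))
  obtain ⟨P, hP, -, hPM⟩ := Ideal.exists_le_prime_disjoint ⊥ M hdisj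
  refine ⟨P, hP, fun F _ _ φ hφ => ?_⟩
  rw [← hs.cardinalMk_eq_trdeg]
  refine AlgebraicIndependent.cardinalMk_le_trdeg (x := fun i => φ (v i)) ?_
  refine (injective_iff_map_eq_zero _).2 fun q hq => ?_
  by_contra hne
  refine Set.disjoint_left.1 hPM ?_ ⟨q, mem_nonZeroDivisors_of_ne_zero hne, rfl⟩
  rw [← hφ, SetLike.mem_coe, RingHom.mem_ker, ← AlgHom.comp_apply, MvPolynomial.comp_aeval]
  exact hq

end Algebra

section Scheme

open Scheme.Pullback

variable {X Y S : Scheme.{u}} {f : X ⟶ S} {g : Y ⟶ S}

theorem trdeg_congr_eq_resTrdeg (f : X ⟶ S) (x : X) {s : S} (h : f x = s) :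
    (letI := ((S.residueFieldCongr h).inv ≫ f.residueFieldMap x).hom.toAlgebra
     Algebra.trdeg (S.residueField s) (X.residueField x)) = Dual3.resTrdeg f x := by
  subst h
  unfold Dual3.resTrdeg
  simp

theorem resTrdeg_snd_le (z : ↥(pullback f g)) :
    Dual3.resTrdeg (pullback.snd f g) z ≤ Dual3.resTrdeg f (pullback.fst f g z) := by
  let T := Triplet.ofPoint z
  let a := (S.residueFieldCongr T.hx).inv ≫ f.residueFieldMap T.x
  let b := (S.residueFieldCongr T.hy).inv ≫ g.residueFieldMap T.y
  let φ := ofPointTensor z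
  have h1 : T.tensorInl ≫ φ = (pullback.fst f g).residueFieldMap z := pushout.inl_desc _ _ _
  have h2 : T.tensorInr ≫ φ = (pullback.snd f g).residueFieldMap z := pushout.inr_desc _ _ _
  letI : Algebra (S.residueField T.s) (X.residueField T.x) := a.hom.toAlgebra
  letI : Algebra (S.residueField T.s) (Y.residueField T.y) := b.hom.toAlgebra
  letI : Algebra (X.residueField T.x) ((pullback f g).residueField z) :=
    ((pullback.fst f g).residueFieldMap z).hom.toAlgebra
  letI : Algebra (Y.residueField T.y) ((pullback f g).residueField z) :=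
    ((pullback.snd f g).residueFieldMap z).hom.toAlgebra
  letI : Algebra (S.residueField T.s) ((pullback f g).residueField z) :=
    (a ≫ (pullback.fst f g).residueFieldMap z).hom.toAlgebra
  haveI : IsScalarTower (S.residueField T.s) (X.residueField T.x) ((pullback f g).residueField z) :=
    .of_algebraMap_eq' rfl
  haveI : IsScalarTower (S.residueField T.s) (Y.residueField T.y) ((pullback f g).residueField z) :=
    .of_algebraMap_eq' (congrArg CommRingCat.Hom.hom (residueFieldCongr_inv_residueFieldMap_ofPoint z))
  refine le_of_le_of_eq ?_ (trdeg_congr_eq_resTrdeg f T.x T.hx)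
  show Algebra.trdeg (Y.residueField T.y) ((pullback f g).residueField z) ≤ _
  refine trdeg_le_of_adjoin_eq_top (k := S.residueField T.s) (K := Y.residueField T.y) (L := X.residueField T.x) (F := (pullback f g).residueField z) ?_
  let C := IntermediateField.adjoin (Y.residueField T.y)
    (Set.range (algebraMap (X.residueField T.x) ((pullback f g).residueField z)))
  let iX : X.residueField T.x ⟶ CommRingCat.of C :=
    CommRingCat.ofHom (((pullback.fst f g).residueFieldMap z).hom.codRestrict C
      fun x => IntermediateField.subset_adjoin _ _ ⟨x, rfl⟩)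
  let iY : Y.residueField T.y ⟶ CommRingCat.of C :=
    CommRingCat.ofHom (((pullback.snd f g).residueFieldMap z).hom.codRestrict C
      fun y => C.algebraMap_mem y)
  let i : CommRingCat.of C ⟶ (pullback f g).residueField z := CommRingCat.ofHom C.val.toRingHom
  have hi : Mono i := ConcreteCategory.mono_of_injective _ Subtype.val_injective
  let ψ : T.tensor ⟶ CommRingCat.of C := pushout.desc iX iY <| by
    rw [← cancel_mono i]
    exact residueFieldCongr_inv_residueFieldMap_ofPoint z
  have hψ : ψ ≫ i = φ := by
    apply pushout.hom_ext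
    · rw [pushout.inl_desc_assoc]
      exact h1.symm
    · rw [pushout.inr_desc_assoc]
      exact h2.symm
  have : IsPreimmersion (Spec.map φ ≫ T.SpecTensorTo) := by
    rw [ofPointTensor_SpecTensorTo]; infer_instance
  have hsurj : RingHom.SurjectiveOnStalks φ.hom :=
    AlgebraicGeometry.SurjectiveOnStalks.Spec_iff.1
      (AlgebraicGeometry.SurjectiveOnStalks.of_comp (Spec.map φ) T.SpecTensorTo)
  refine eq_top_iff.2 fun a _ => ?_
  obtain ⟨n, r, c, hc, hr, e⟩ := RingHom.surjectiveOnStalks_iff_forall_ideal.1 hsurj ⊥
    bot_ne_top a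
  rw [Ideal.mem_bot] at hc hr
  have ha : φ.hom r * a = φ.hom n := mul_left_cancel₀ hc (by rw [← mul_assoc, e])
  have hm : ∀ t, φ.hom t ∈ C := fun t => by rw [← hψ]; exact (ψ.hom t).2
  rw [show a = φ.hom n * (φ.hom r)⁻¹ by rw [← ha, mul_comm, inv_mul_cancel_left₀ hr]]
  exact mul_mem (hm _) (inv_mem (hm _))

theorem exists_resTrdeg_le_snd (x : X) (y : Y) (h : f x = g y) :
    ∃ z : ↥(pullback f g), pullback.fst f g z = x ∧ pullback.snd f g z = y ∧
      Dual3.resTrdeg f x ≤ Dual3.resTrdeg (pullback.snd f g) z := by
  let Q : (Σ T : Triplet f g, ↥(Spec T.tensor)) → Prop := fun p =>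
    ∀ (F : Type u) [Field F] (φ : p.1.tensor ⟶ CommRingCat.of F), RingHom.ker φ.hom = p.2.asIdeal →
      Dual3.resTrdeg f p.1.x ≤
        (letI := (p.1.tensorInr ≫ φ).hom.toAlgebra
         Algebra.trdeg (Y.residueField p.1.y) F)
  let T : Triplet f g := Triplet.mk' x y h
  let a := (S.residueFieldCongr T.hx).inv ≫ f.residueFieldMap T.x
  let b := (S.residueFieldCongr T.hy).inv ≫ g.residueFieldMap T.y
  letI : Algebra (S.residueField T.s) (X.residueField T.x) := a.hom.toAlgebra
  letI : Algebra (S.residueField T.s) (Y.residueField T.y) := b.hom.toAlgebra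
  letI : Algebra (X.residueField T.x) T.tensor := T.tensorInl.hom.toAlgebra
  letI : Algebra (Y.residueField T.y) T.tensor := T.tensorInr.hom.toAlgebra
  letI : Algebra (S.residueField T.s) T.tensor := (a ≫ T.tensorInl).hom.toAlgebra
  haveI : IsScalarTower (S.residueField T.s) (X.residueField T.x) T.tensor := .of_algebraMap_eq' rfl
  haveI : IsScalarTower (S.residueField T.s) (Y.residueField T.y) T.tensor :=
    .of_algebraMap_eq' (congrArg CommRingCat.Hom.hom (pushout.condition (f := a) (g := b)))
  haveI : Algebra.IsPushout (S.residueField T.s) (X.residueField T.x) (Y.residueField T.y) T.tensor :=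
    CommRingCat.isPushout_iff_isPushout.1 (IsPushout.of_hasPushout a b)
  haveI : Algebra.IsPushout (S.residueField T.s) (Y.residueField T.y) (X.residueField T.x) T.tensor :=
    Algebra.IsPushout.symm inferInstance
  obtain ⟨P, hP, hF⟩ := exists_prime_trdeg_ge (k := S.residueField T.s) (K := Y.residueField T.y)
    (L := X.residueField T.x) (R := T.tensor)
  have hQ : Q ⟨T, ⟨P, hP⟩⟩ := fun F _ φ hφ => by
    letI := (T.tensorInr ≫ φ).hom.toAlgebra
    exact (trdeg_congr_eq_resTrdeg f T.x T.hx).symm.trans_le
      (hF F { φ.hom with commutes' := fun _ => rfl } hφ)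
  refine ⟨carrierEquiv.symm ⟨T, ⟨P, hP⟩⟩, carrierEquiv_symm_fst _ _, carrierEquiv_symm_snd _ _, ?_⟩
  generalize hz : carrierEquiv.symm (⟨T, ⟨P, hP⟩⟩ : Σ T : Triplet f g, ↥(Spec T.tensor)) = z
  rw [Equiv.symm_apply_eq] at hz
  rw [hz] at hQ
  have hx : pullback.fst f g z = x := (congrArg (fun p : Σ T : Triplet f g, ↥(Spec T.tensor) => p.1.x) hz).symm
  subst hx
  refine le_of_le_of_eq (hQ _ (ofPointTensor z) rfl) ?_
  unfold Dual3.resTrdeg
  have : (Triplet.ofPoint z).tensorInr ≫ ofPointTensor z = (pullback.snd f g).residueFieldMap z :=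
    pushout.inr_desc _ _ _
  rw [← this]
  rfl

end Scheme

end Groth.Agent.TrdegBC
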